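import Cfsg.Agent.Lib.KnownSimple.MultM.M11H.ValC0

/-!
# The relations between the relators
-/

set_option autoImplicit false

namespace Cfsg.Agent.Lib.KnownSimple.MultM.M11H

open Cfsg Cfsg.Spor Cfsg.Agent.Lib.Compute Cfsg.Agent.Lib.KnownSimple.PE Cfsg.Agent.Lib.KnownSimple.Leech
open Cfsg.Agent.Lib.KnownSimple Cfsg.Agent.Lib.KnownSimple.AutRigid Cfsg.Agent.Lib.KnownSimple.Pres
open Cfsg.Agent.Lib.KnownSimple.MultC


theorem hEF : ∀ e, e < n * d → chkEdgeG 4294967296 mskM cKK C.τ d n RL 29 3 24 (lookP parT) (lookP genT) (lg 0 peL) tv e = true := by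
  have h : allBelow fe 720 = true :=
    allBelow_of_pad (m := 1) (s := 1024) (by norm_num) (fun c hc => by
    interval_cases c
    · exact ve0
  )
  intro e he
  exact (allBelow_iff _ _).1 h e he
set_option maxHeartbeats 0 in
set_option maxRecDepth 100000 in
theorem hLn : allBelow (fun q => Nat.blt (((lg [] RL q).length + 1) * 65536) 4294967296) 29 = true := by decide +kernel
theorem hE : ∀ e, e < n * d → chkEdge C.τ d n RL 29 3 24 (lookP parT) (lookP genT) (lg 0 peL) (toV 4294967296 27 tv) e = true :=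
  chkEdge_of_G (by norm_num) (good_of_mask (W := 32) (b := 16) (by norm_num) (by norm_num) (by norm_num) (by decide +kernel) (by decide +kernel))
    (fun l i hl hi => C.hlt l i hl hi) (fun q _ => words_lg hokR q) (len_of_chk hLn) hEF
set_option maxRecDepth 100000 in
/-- The relations. -/
def rowsF : List (ℕ × ℕ × List ℤ) := [(0,18,[.ofNat 0,.ofNat 0,.ofNat 0,.negSucc 0,.ofNat 0,.ofNat 0,.ofNat 0,.ofNat 0,.ofNat 1,.ofNat 0,.ofNat 1]),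
  (1,22,[.negSucc 0,.ofNat 1,.negSucc 0,.ofNat 0,.ofNat 1,.ofNat 0,.ofNat 0,.ofNat 1,.negSucc 0,.ofNat 0,.ofNat 1,.ofNat 0,.ofNat 0,.ofNat 0,.ofNat 0,.ofNat 0,.ofNat 0,.negSucc 0,.ofNat 0,.ofNat 0,.ofNat 0,.ofNat 0,.ofNat 0,.ofNat 0,.ofNat 0,.ofNat 1]),
  (2,9,[.ofNat 0,.ofNat 0,.ofNat 0,.negSucc 3,.negSucc 0,.negSucc 0,.negSucc 6,.ofNat 0,.ofNat 3,.ofNat 1,.ofNat 1,.ofNat 0,.ofNat 0,.ofNat 1,.ofNat 0,.ofNat 3,.ofNat 0,.ofNat 0,.ofNat 0,.ofNat 0,.ofNat 0,.ofNat 0,.negSucc 1]),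
  (2,13,[.ofNat 2,.ofNat 0,.ofNat 14,.ofNat 4,.ofNat 5,.ofNat 0,.ofNat 1,.negSucc 0,.negSucc 5,.negSucc 5,.negSucc 5,.ofNat 0,.ofNat 0,.negSucc 5,.ofNat 1,.negSucc 1,.ofNat 0,.ofNat 2,.ofNat 0,.ofNat 0,.ofNat 0,.ofNat 0,.ofNat 10,.ofNat 3,.ofNat 0,.negSucc 0]),
  (5,25,[.ofNat 0,.ofNat 0,.ofNat 0,.ofNat 0,.ofNat 0,.ofNat 0,.ofNat 1,.ofNat 0,.negSucc 0,.ofNat 0,.ofNat 0,.ofNat 0,.ofNat 0,.ofNat 0,.ofNat 0,.negSucc 0,.ofNat 0,.ofNat 0,.ofNat 0,.ofNat 0,.ofNat 0,.ofNat 0,.ofNat 1]),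
  (6,17,[.ofNat 0,.ofNat 0,.ofNat 0,.negSucc 4,.negSucc 1,.negSucc 5,.negSucc 6,.ofNat 0,.ofNat 5,.ofNat 2,.ofNat 0,.ofNat 0,.ofNat 0,.ofNat 0,.ofNat 0,.ofNat 4,.ofNat 0,.ofNat 0,.ofNat 0,.ofNat 0,.ofNat 0,.ofNat 0,.negSucc 0]),
  (6,25,[.ofNat 0,.ofNat 0,.ofNat 0,.ofNat 2,.ofNat 1,.ofNat 2,.ofNat 1,.ofNat 0,.negSucc 0,.ofNat 0,.ofNat 0,.ofNat 0,.ofNat 0,.ofNat 0,.ofNat 0,.ofNat 0,.ofNat 0,.ofNat 0,.ofNat 0,.ofNat 0,.ofNat 0,.ofNat 0,.negSucc 0]),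
  (7,20,[.ofNat 0,.ofNat 0,.ofNat 5,.ofNat 3,.ofNat 3,.ofNat 0,.ofNat 0,.ofNat 0,.negSucc 1,.negSucc 2,.negSucc 1,.ofNat 0,.ofNat 0,.negSucc 0,.ofNat 0,.negSucc 0,.ofNat 0,.ofNat 0,.ofNat 0,.ofNat 0,.ofNat 0,.ofNat 0,.ofNat 5]),
  (7,28,[.ofNat 0,.ofNat 0,.ofNat 0,.ofNat 0,.ofNat 0,.ofNat 0,.ofNat 1,.negSucc 0,.ofNat 0,.ofNat 0,.ofNat 0,.ofNat 0,.ofNat 0,.negSucc 0,.ofNat 0,.ofNat 0,.ofNat 0,.negSucc 0,.ofNat 0,.ofNat 0,.ofNat 0,.ofNat 0,.ofNat 0,.ofNat 0,.ofNat 1]),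
  (8,26,[.ofNat 0,.ofNat 0,.ofNat 0,.ofNat 0,.negSucc 2,.negSucc 3,.negSucc 4,.ofNat 0,.ofNat 3,.ofNat 1,.negSucc 0,.ofNat 0,.ofNat 0,.ofNat 1,.ofNat 0,.ofNat 4,.ofNat 0,.ofNat 0,.ofNat 0,.ofNat 0,.ofNat 0,.ofNat 0,.negSucc 2]),
  (10,22,[.ofNat 0,.ofNat 0,.ofNat 0,.ofNat 1,.ofNat 1,.ofNat 0,.ofNat 1,.ofNat 1,.negSucc 0,.ofNat 0,.ofNat 0,.ofNat 0,.ofNat 0,.ofNat 0,.ofNat 0,.ofNat 0,.ofNat 0,.negSucc 0,.ofNat 0,.ofNat 0,.ofNat 0,.ofNat 0,.ofNat 0,.ofNat 0,.ofNat 0,.ofNat 1]),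
  (13,15,[.ofNat 0,.ofNat 0,.ofNat 0,.negSucc 2,.negSucc 1,.negSucc 4,.negSucc 6,.ofNat 0,.ofNat 5,.ofNat 1,.ofNat 0,.ofNat 0,.ofNat 0,.ofNat 0,.ofNat 0,.ofNat 4,.ofNat 0,.ofNat 0,.ofNat 0,.ofNat 0,.ofNat 0,.ofNat 0,.negSucc 0]),
  (13,16,[.ofNat 0,.ofNat 0,.ofNat 0,.negSucc 1,.ofNat 0,.negSucc 0,.ofNat 0,.ofNat 0,.ofNat 4,.ofNat 0,.negSucc 0,.ofNat 0,.ofNat 0,.negSucc 0,.ofNat 0,.ofNat 1,.ofNat 0,.ofNat 0,.ofNat 0,.ofNat 0,.ofNat 0,.ofNat 0,.ofNat 1]),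
  (14,22,[.ofNat 0,.ofNat 0,.ofNat 0,.ofNat 2,.negSucc 0,.ofNat 0,.ofNat 1,.negSucc 2,.negSucc 0,.ofNat 0,.ofNat 0,.ofNat 0,.ofNat 0,.ofNat 0,.ofNat 2]),
  (16,23,[.ofNat 0,.ofNat 1,.ofNat 1,.negSucc 0,.negSucc 1,.negSucc 1,.negSucc 2,.negSucc 1,.negSucc 1,.ofNat 0,.ofNat 0,.ofNat 0,.ofNat 0,.ofNat 0,.ofNat 1,.ofNat 0,.ofNat 0,.negSucc 1,.ofNat 0,.ofNat 0,.ofNat 0,.ofNat 0,.ofNat 2,.ofNat 0,.ofNat 1,.ofNat 1]),
  (17,20,[.ofNat 0,.ofNat 0,.negSucc 4,.ofNat 1,.ofNat 2,.ofNat 4,.ofNat 3,.ofNat 0,.ofNat 2,.ofNat 1,.ofNat 2,.ofNat 0,.ofNat 0,.ofNat 1,.ofNat 0,.ofNat 0,.ofNat 0,.ofNat 0,.ofNat 0,.ofNat 0,.ofNat 0,.ofNat 0,.negSucc 2,.negSucc 0]),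
  (21,25,[.ofNat 0,.ofNat 0,.ofNat 0,.ofNat 1,.ofNat 0,.ofNat 0,.negSucc 0,.ofNat 0,.ofNat 0,.ofNat 0,.ofNat 0,.ofNat 0,.ofNat 0,.ofNat 0,.ofNat 0,.ofNat 1,.ofNat 0,.ofNat 0,.ofNat 0,.ofNat 0,.ofNat 0,.ofNat 0,.negSucc 0]),
  (26,24,[.ofNat 0,.ofNat 0,.ofNat 5,.negSucc 1,.negSucc 0,.ofNat 0,.negSucc 1,.ofNat 0,.ofNat 0,.negSucc 0,.negSucc 0,.ofNat 0,.ofNat 0,.negSucc 1,.ofNat 0,.ofNat 1,.ofNat 0,.ofNat 0,.ofNat 0,.ofNat 0,.ofNat 0,.ofNat 0,.ofNat 0,.ofNat 2]),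
  (47,23,[.negSucc 0,.negSucc 2,.ofNat 0,.ofNat 1,.ofNat 2,.ofNat 0,.negSucc 0,.ofNat 6,.ofNat 4,.ofNat 1,.ofNat 1,.ofNat 0,.ofNat 0,.ofNat 1,.negSucc 0,.ofNat 2,.ofNat 0,.ofNat 0,.ofNat 0,.ofNat 0,.ofNat 0,.ofNat 0,.negSucc 2,.negSucc 0,.ofNat 0,.negSucc 1,.ofNat 1]),
  (48,23,[.ofNat 0,.ofNat 0,.ofNat 5,.ofNat 3,.ofNat 5,.ofNat 0,.ofNat 4,.ofNat 1,.ofNat 0,.negSucc 2,.negSucc 1,.ofNat 0,.ofNat 0,.negSucc 2,.ofNat 0,.ofNat 0,.ofNat 0,.ofNat 0,.ofNat 0,.ofNat 0,.ofNat 0,.ofNat 0,.ofNat 3,.ofNat 0,.ofNat 0,.negSucc 1,.ofNat 2]),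
  (52,28,[.ofNat 0,.ofNat 0,.ofNat 0,.ofNat 0,.ofNat 0,.ofNat 0,.ofNat 0,.ofNat 1,.ofNat 0,.ofNat 0,.ofNat 0,.ofNat 0,.ofNat 0,.ofNat 1,.ofNat 0,.ofNat 0,.ofNat 0,.ofNat 0,.ofNat 0,.ofNat 0,.ofNat 0,.ofNat 0,.ofNat 0,.ofNat 0,.negSucc 0]),
  (54,26,[.ofNat 0,.ofNat 0,.ofNat 0,.ofNat 0,.ofNat 3,.ofNat 5,.ofNat 7,.ofNat 0,.negSucc 2,.negSucc 0,.ofNat 1,.ofNat 0,.ofNat 0,.negSucc 0,.ofNat 0,.negSucc 4,.ofNat 0,.ofNat 0,.ofNat 0,.ofNat 0,.ofNat 0,.ofNat 0,.ofNat 3]),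
  (60,22,[.ofNat 5,.ofNat 0,.negSucc 9,.negSucc 38,.negSucc 20,.negSucc 40,.negSucc 20,.negSucc 3,.ofNat 25,.ofNat 12,.ofNat 3,.ofNat 0,.ofNat 0,.ofNat 0,.ofNat 0,.ofNat 12,.ofNat 0,.negSucc 3,.ofNat 0,.ofNat 0,.ofNat 0,.ofNat 0,.negSucc 1,.negSucc 1,.ofNat 5,.negSucc 0]),
  (66,8,[.ofNat 0,.ofNat 0,.ofNat 0,.ofNat 3,.ofNat 3,.ofNat 0,.ofNat 2,.ofNat 2,.ofNat 0,.ofNat 0,.ofNat 0,.ofNat 0,.ofNat 0,.negSucc 1,.ofNat 0,.ofNat 0,.ofNat 0,.ofNat 1]),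
  (69,24,[.ofNat 0,.ofNat 0,.ofNat 0,.ofNat 1,.negSucc 0,.negSucc 1,.negSucc 0,.ofNat 0,.negSucc 0,.ofNat 0,.negSucc 0,.ofNat 0,.ofNat 0,.ofNat 1,.ofNat 0,.ofNat 0,.ofNat 0,.ofNat 0,.ofNat 0,.ofNat 0,.ofNat 0,.ofNat 0,.ofNat 1]),
  (122,27,[.ofNat 0,.ofNat 0,.ofNat 0,.negSucc 4,.ofNat 0,.negSucc 1,.negSucc 2,.ofNat 0,.ofNat 1,.ofNat 0,.ofNat 2,.ofNat 0,.ofNat 0,.negSucc 0,.ofNat 0,.ofNat 0,.ofNat 0,.ofNat 0,.ofNat 0,.ofNat 0,.ofNat 0,.ofNat 0,.ofNat 1]),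
  (122,28,[.ofNat 0,.ofNat 0,.ofNat 0,.negSucc 1,.ofNat 0,.ofNat 0,.negSucc 0,.ofNat 2,.ofNat 2,.ofNat 0,.ofNat 0,.ofNat 0,.ofNat 0,.ofNat 1,.negSucc 0,.ofNat 0,.ofNat 0,.ofNat 1,.ofNat 0,.ofNat 0,.ofNat 0,.ofNat 0,.ofNat 0,.ofNat 0,.negSucc 0]),
  (127,27,[.ofNat 0,.ofNat 0,.ofNat 0,.ofNat 5,.ofNat 0,.ofNat 0,.ofNat 0,.ofNat 0,.negSucc 0,.ofNat 0,.negSucc 1,.ofNat 0,.ofNat 0,.ofNat 1,.ofNat 0,.ofNat 1,.ofNat 0,.ofNat 0,.ofNat 0,.ofNat 0,.ofNat 0,.ofNat 0,.negSucc 0])]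
set_option maxHeartbeats 0 in
set_option maxRecDepth 100000 in
theorem hF : ∀ x ∈ rowsF, chkRow C.τ d n RL 29 (n * d) 576 (toV 4294967296 27 tv) x = true := by
  have h : rowsF.all (chkRow τ d n RL 29 (n * d) 576 (toV 4294967296 27 tv)) = true := by decide +kernel
  exact fun x hx => List.all_eq_true.1 h x hx
set_option maxRecDepth 100000 in
/-- A combination. -/
def cb0 : List (ℕ × ℤ) := [(1,.ofNat 15),(4,.negSucc 26),(6,.negSucc 9),(7,.ofNat 16),(9,.negSucc 10),(10,.ofNat 6),(13,.ofNat 9),(14,.negSucc 14),(15,.negSucc 4),(16,.ofNat 37),(17,.ofNat 6),(19,.negSucc 14),(20,.negSucc 2),(21,.ofNat 11),(22,.ofNat 3),(24,.negSucc 7),(25,.negSucc 8),(26,.ofNat 3),(27,.ofNat 9)]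
set_option maxHeartbeats 0 in
set_option maxRecDepth 100000 in
theorem hcb0 : chkComb 3 24 rowsF 0 0 (0) cb0 = true := by decide +kernel
set_option maxRecDepth 100000 in
/-- A combination. -/
def cb1 : List (ℕ × ℤ) := [(1,.negSucc 14),(4,.ofNat 25),(6,.ofNat 11),(7,.negSucc 15),(9,.ofNat 11),(10,.negSucc 5),(13,.negSucc 8),(14,.ofNat 15),(15,.ofNat 4),(16,.negSucc 37),(17,.negSucc 6),(19,.ofNat 15),(20,.ofNat 3),(21,.negSucc 10),(22,.negSucc 2),(24,.ofNat 7),(25,.ofNat 9),(26,.negSucc 2),(27,.negSucc 8)]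
set_option maxHeartbeats 0 in
set_option maxRecDepth 100000 in
theorem hcb1 : chkComb 3 24 rowsF 0 1 (0) cb1 = true := by decide +kernel
set_option maxRecDepth 100000 in
/-- A combination. -/
def cb2 : List (ℕ × ℤ) := [(1,.ofNat 15),(4,.negSucc 25),(6,.negSucc 9),(7,.ofNat 16),(9,.negSucc 11),(10,.ofNat 6),(13,.ofNat 9),(14,.negSucc 14),(15,.negSucc 3),(16,.ofNat 36),(17,.ofNat 7),(19,.negSucc 14),(20,.negSucc 2),(21,.ofNat 10),(22,.ofNat 3),(24,.negSucc 6),(25,.negSucc 8),(26,.ofNat 3),(27,.ofNat 9)]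
set_option maxHeartbeats 0 in
set_option maxRecDepth 100000 in
theorem hcb2 : chkComb 3 24 rowsF 0 2 (0) cb2 = true := by decide +kernel
set_option maxRecDepth 100000 in
/-- A combination. -/
def cb3 : List (ℕ × ℤ) := [(1,.negSucc 14),(4,.ofNat 26),(6,.ofNat 10),(7,.negSucc 15),(9,.ofNat 11),(10,.negSucc 5),(13,.negSucc 8),(14,.ofNat 15),(15,.ofNat 4),(16,.negSucc 35),(17,.negSucc 6),(19,.ofNat 15),(20,.ofNat 3),(21,.negSucc 10),(22,.negSucc 2),(24,.ofNat 7),(25,.ofNat 8),(26,.negSucc 2),(27,.negSucc 9)]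
set_option maxHeartbeats 0 in
set_option maxRecDepth 100000 in
theorem hcb3 : chkComb 3 24 rowsF 0 3 (0) cb3 = true := by decide +kernel
set_option maxRecDepth 100000 in
/-- A combination. -/
def cb4 : List (ℕ × ℤ) := [(1,.ofNat 15),(4,.negSucc 25),(6,.negSucc 10),(7,.ofNat 16),(8,.negSucc 0),(9,.negSucc 10),(10,.ofNat 7),(13,.ofNat 9),(14,.negSucc 14),(15,.negSucc 3),(16,.ofNat 37),(17,.ofNat 7),(19,.negSucc 14),(20,.negSucc 3),(21,.ofNat 11),(22,.ofNat 3),(24,.negSucc 6),(25,.negSucc 8),(26,.ofNat 3),(27,.ofNat 9)]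
set_option maxHeartbeats 0 in
set_option maxRecDepth 100000 in
theorem hcb4 : chkComb 3 24 rowsF 0 4 (0) cb4 = true := by decide +kernel
set_option maxRecDepth 100000 in
/-- A combination. -/
def cb5 : List (ℕ × ℤ) := [(1,.ofNat 15),(4,.negSucc 27),(6,.negSucc 9),(7,.ofNat 16),(9,.negSucc 10),(10,.ofNat 6),(13,.ofNat 9),(14,.negSucc 14),(15,.negSucc 4),(16,.ofNat 36),(17,.ofNat 6),(19,.negSucc 14),(20,.negSucc 2),(21,.ofNat 11),(22,.ofNat 3),(24,.negSucc 7),(25,.negSucc 8),(26,.ofNat 3),(27,.ofNat 9)]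
set_option maxHeartbeats 0 in
set_option maxRecDepth 100000 in
theorem hcb5 : chkComb 3 24 rowsF 0 5 (0) cb5 = true := by decide +kernel
set_option maxRecDepth 100000 in
/-- A combination. -/
def cb6 : List (ℕ × ℤ) := [(1,.ofNat 15),(4,.negSucc 24),(6,.negSucc 7),(7,.ofNat 16),(9,.negSucc 11),(10,.ofNat 6),(13,.ofNat 9),(14,.negSucc 14),(15,.negSucc 4),(16,.ofNat 33),(17,.ofNat 6),(19,.negSucc 14),(20,.negSucc 2),(21,.ofNat 9),(22,.ofNat 3),(24,.negSucc 8),(25,.negSucc 8),(26,.ofNat 3),(27,.ofNat 9)]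
set_option maxHeartbeats 0 in
set_option maxRecDepth 100000 in
theorem hcb6 : chkComb 3 24 rowsF 0 6 (0) cb6 = true := by decide +kernel
set_option maxRecDepth 100000 in
/-- A combination. -/
def cb7 : List (ℕ × ℤ) := [(1,.ofNat 15),(4,.negSucc 28),(6,.negSucc 8),(7,.ofNat 16),(9,.negSucc 10),(10,.ofNat 6),(13,.ofNat 9),(14,.negSucc 14),(15,.negSucc 5),(16,.ofNat 38),(17,.ofNat 5),(19,.negSucc 14),(20,.negSucc 2),(21,.ofNat 11),(22,.ofNat 3),(24,.negSucc 7),(25,.negSucc 9),(26,.ofNat 3),(27,.ofNat 7)]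
set_option maxHeartbeats 0 in
set_option maxRecDepth 100000 in
theorem hcb7 : chkComb 3 24 rowsF 0 7 (0) cb7 = true := by decide +kernel
set_option maxRecDepth 100000 in
/-- A combination. -/
def cb8 : List (ℕ × ℤ) := [(1,.negSucc 14),(4,.ofNat 28),(6,.ofNat 7),(7,.negSucc 15),(8,.negSucc 2),(9,.ofNat 11),(10,.negSucc 3),(13,.negSucc 8),(14,.ofNat 15),(15,.ofNat 3),(16,.negSucc 34),(17,.negSucc 7),(19,.ofNat 15),(21,.negSucc 10),(22,.negSucc 2),(23,.negSucc 0),(24,.ofNat 2),(25,.ofNat 8),(26,.negSucc 2),(27,.negSucc 7)]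
set_option maxHeartbeats 0 in
set_option maxRecDepth 100000 in
theorem hcb8 : chkComb 3 24 rowsF 0 8 (0) cb8 = true := by decide +kernel
set_option maxRecDepth 100000 in
/-- A combination. -/
def cb9 : List (ℕ × ℤ) := [(1,.ofNat 45),(2,.negSucc 0),(4,.negSucc 82),(6,.negSucc 25),(7,.ofNat 48),(9,.negSucc 34),(10,.ofNat 18),(13,.ofNat 27),(14,.negSucc 44),(15,.negSucc 12),(16,.ofNat 104),(17,.ofNat 20),(19,.negSucc 44),(20,.negSucc 8),(21,.ofNat 30),(22,.ofNat 9),(24,.negSucc 19),(25,.negSucc 25),(26,.ofNat 9),(27,.ofNat 26)]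
set_option maxHeartbeats 0 in
set_option maxRecDepth 100000 in
theorem hcb9 : chkComb 3 24 rowsF 0 9 (0) cb9 = true := by decide +kernel
set_option maxRecDepth 100000 in
/-- A combination. -/
def cb10 : List (ℕ × ℤ) := [(4,.negSucc 3),(6,.ofNat 2),(15,.negSucc 0),(16,.negSucc 0),(17,.negSucc 0),(24,.ofNat 1),(25,.negSucc 0),(27,.negSucc 1)]
set_option maxHeartbeats 0 in
set_option maxRecDepth 100000 in
theorem hcb10 : chkComb 3 24 rowsF 0 10 (0) cb10 = true := by decide +kernel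
set_option maxRecDepth 100000 in
/-- A combination. -/
def cb11 : List (ℕ × ℤ) := [(1,.ofNat 15),(4,.negSucc 27),(6,.negSucc 10),(7,.ofNat 16),(8,.negSucc 1),(9,.negSucc 10),(10,.ofNat 7),(13,.ofNat 9),(14,.negSucc 14),(15,.negSucc 3),(16,.ofNat 35),(17,.ofNat 7),(19,.negSucc 14),(20,.negSucc 3),(21,.ofNat 11),(22,.ofNat 3),(24,.negSucc 6),(25,.negSucc 8),(26,.ofNat 2),(27,.ofNat 9)]
set_option maxHeartbeats 0 in
set_option maxRecDepth 100000 in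
theorem hcb11 : chkComb 3 24 rowsF 0 11 (0) cb11 = true := by decide +kernel
set_option maxRecDepth 100000 in
/-- A combination. -/
def cb12 : List (ℕ × ℤ) := [(1,.negSucc 14),(4,.ofNat 26),(6,.ofNat 10),(7,.negSucc 15),(9,.ofNat 9),(10,.negSucc 5),(13,.negSucc 8),(14,.ofNat 15),(15,.ofNat 4),(16,.negSucc 35),(17,.negSucc 6),(19,.ofNat 15),(20,.ofNat 3),(21,.negSucc 12),(22,.negSucc 2),(24,.ofNat 7),(25,.ofNat 7),(26,.negSucc 2),(27,.negSucc 10)]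
set_option maxHeartbeats 0 in
set_option maxRecDepth 100000 in
theorem hcb12 : chkComb 3 24 rowsF 0 12 (0) cb12 = true := by decide +kernel
set_option maxRecDepth 100000 in
/-- A combination. -/
def cb13 : List (ℕ × ℤ) := [(1,.ofNat 1),(3,.negSucc 0),(4,.negSucc 12),(7,.negSucc 2),(8,.negSucc 7),(9,.negSucc 8),(10,.negSucc 26),(13,.negSucc 9),(14,.ofNat 5),(15,.negSucc 1),(16,.ofNat 13),(18,.ofNat 2),(19,.ofNat 5),(20,.ofNat 20),(21,.ofNat 3),(22,.ofNat 1),(25,.negSucc 3),(26,.negSucc 17),(27,.ofNat 4)]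
set_option maxHeartbeats 0 in
set_option maxRecDepth 100000 in
theorem hcb13 : chkComb 3 24 rowsF 0 13 (0) cb13 = true := by decide +kernel
set_option maxRecDepth 100000 in
/-- A combination. -/
def cb14 : List (ℕ × ℤ) := [(1,.negSucc 14),(4,.ofNat 26),(6,.ofNat 10),(7,.negSucc 15),(8,.negSucc 0),(9,.ofNat 11),(10,.negSucc 5),(13,.negSucc 8),(14,.ofNat 15),(15,.ofNat 4),(16,.negSucc 35),(17,.negSucc 6),(19,.ofNat 15),(20,.ofNat 2),(21,.negSucc 10),(22,.negSucc 2),(24,.ofNat 7),(25,.ofNat 8),(26,.negSucc 2),(27,.negSucc 9)]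
set_option maxHeartbeats 0 in
set_option maxRecDepth 100000 in
theorem hcb14 : chkComb 3 24 rowsF 0 14 (0) cb14 = true := by decide +kernel
set_option maxRecDepth 100000 in
/-- A combination. -/
def cb15 : List (ℕ × ℤ) := [(1,.ofNat 30),(4,.negSucc 54),(6,.negSucc 19),(7,.ofNat 32),(9,.negSucc 23),(10,.ofNat 12),(11,.negSucc 0),(13,.ofNat 18),(14,.negSucc 29),(15,.negSucc 9),(16,.ofNat 70),(17,.ofNat 12),(19,.negSucc 29),(20,.negSucc 5),(21,.ofNat 19),(22,.ofNat 6),(24,.negSucc 16),(25,.negSucc 17),(26,.ofNat 6),(27,.ofNat 18)]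
set_option maxHeartbeats 0 in
set_option maxRecDepth 100000 in
theorem hcb15 : chkComb 3 24 rowsF 0 15 (0) cb15 = true := by decide +kernel
set_option maxRecDepth 100000 in
/-- A combination. -/
def cb16 : List (ℕ × ℤ) := [(6,.negSucc 2),(9,.negSucc 2),(12,.negSucc 0),(16,.negSucc 2),(21,.negSucc 2),(24,.negSucc 2),(25,.negSucc 0),(27,.ofNat 1)]
set_option maxHeartbeats 0 in
set_option maxRecDepth 100000 in
theorem hcb16 : chkComb 3 24 rowsF 0 16 (0) cb16 = true := by decide +kernel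
set_option maxRecDepth 100000 in
/-- A combination. -/
def cb17 : List (ℕ × ℤ) := [(5,.negSucc 0),(6,.ofNat 2),(9,.negSucc 1),(15,.negSucc 0),(16,.negSucc 6),(17,.negSucc 0),(21,.negSucc 3),(24,.negSucc 2)]
set_option maxHeartbeats 0 in
set_option maxRecDepth 100000 in
theorem hcb17 : chkComb 3 24 rowsF 0 17 (0) cb17 = true := by decide +kernel
set_option maxRecDepth 100000 in
/-- A combination. -/
def cb18 : List (ℕ × ℤ) := [(0,.negSucc 0),(1,.ofNat 15),(4,.negSucc 29),(6,.negSucc 8),(7,.ofNat 16),(9,.negSucc 10),(10,.ofNat 6),(13,.ofNat 9),(14,.negSucc 14),(15,.negSucc 5),(16,.ofNat 37),(17,.ofNat 5),(19,.negSucc 14),(20,.negSucc 2),(21,.ofNat 11),(22,.ofNat 3),(24,.negSucc 7),(25,.negSucc 9),(26,.ofNat 3),(27,.ofNat 7)]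
set_option maxHeartbeats 0 in
set_option maxRecDepth 100000 in
theorem hcb18 : chkComb 3 24 rowsF 0 18 (0) cb18 = true := by decide +kernel
set_option maxRecDepth 100000 in
/-- A combination. -/
def cb19 : List (ℕ × ℤ) := [(1,.ofNat 15),(4,.negSucc 26),(6,.negSucc 9),(7,.ofNat 16),(9,.negSucc 12),(10,.ofNat 6),(13,.ofNat 9),(14,.negSucc 14),(15,.negSucc 4),(16,.ofNat 36),(17,.ofNat 6),(19,.negSucc 14),(20,.negSucc 2),(21,.ofNat 9),(22,.ofNat 3),(24,.negSucc 7),(25,.negSucc 9),(26,.ofNat 3),(27,.ofNat 8)]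
set_option maxHeartbeats 0 in
set_option maxRecDepth 100000 in
theorem hcb19 : chkComb 3 24 rowsF 0 19 (0) cb19 = true := by decide +kernel
set_option maxRecDepth 100000 in
/-- A combination. -/
def cb20 : List (ℕ × ℤ) := [(1,.ofNat 5),(4,.negSucc 12),(6,.negSucc 2),(7,.ofNat 5),(9,.negSucc 4),(10,.ofNat 2),(13,.ofNat 3),(14,.negSucc 4),(15,.negSucc 2),(16,.ofNat 12),(17,.ofNat 1),(19,.negSucc 4),(20,.negSucc 0),(21,.ofNat 3),(22,.ofNat 1),(24,.negSucc 2),(25,.negSucc 3),(26,.ofNat 1),(27,.ofNat 2)]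
set_option maxHeartbeats 0 in
set_option maxRecDepth 100000 in
theorem hcb20 : chkComb 3 24 rowsF 0 20 (0) cb20 = true := by decide +kernel
set_option maxRecDepth 100000 in
/-- A combination. -/
def cb21 : List (ℕ × ℤ) := [(1,.ofNat 15),(4,.negSucc 29),(6,.negSucc 8),(7,.ofNat 16),(8,.negSucc 0),(9,.negSucc 10),(10,.ofNat 7),(13,.ofNat 9),(14,.negSucc 14),(15,.negSucc 4),(16,.ofNat 36),(17,.ofNat 6),(19,.negSucc 14),(20,.negSucc 4),(21,.ofNat 11),(22,.ofNat 3),(24,.negSucc 5),(25,.negSucc 9),(26,.ofNat 3),(27,.ofNat 7)]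
set_option maxHeartbeats 0 in
set_option maxRecDepth 100000 in
theorem hcb21 : chkComb 3 24 rowsF 0 21 (0) cb21 = true := by decide +kernel
set_option maxRecDepth 100000 in
/-- A combination. -/
def cb22 : List (ℕ × ℤ) := [(4,.negSucc 2),(8,.negSucc 0),(10,.negSucc 0),(13,.negSucc 0),(15,.negSucc 0),(16,.negSucc 0),(17,.negSucc 0),(20,.ofNat 1),(24,.negSucc 0),(25,.negSucc 0),(26,.negSucc 1),(27,.negSucc 0)]
set_option maxHeartbeats 0 in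
set_option maxRecDepth 100000 in
theorem hcb22 : chkComb 3 24 rowsF 0 22 (0) cb22 = true := by decide +kernel
set_option maxRecDepth 100000 in
/-- A combination. -/
def cb23 : List (ℕ × ℤ) := [(1,.ofNat 85),(4,.negSucc 152),(6,.negSucc 53),(7,.ofNat 90),(8,.negSucc 0),(9,.negSucc 62),(10,.ofNat 31),(13,.ofNat 49),(14,.negSucc 84),(15,.negSucc 24),(16,.ofNat 203),(17,.ofNat 37),(19,.negSucc 83),(20,.negSucc 13),(21,.ofNat 61),(22,.ofNat 17),(24,.negSucc 38),(25,.negSucc 49),(26,.ofNat 13),(27,.ofNat 50)]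
set_option maxHeartbeats 0 in
set_option maxRecDepth 100000 in
theorem hcb23 : chkComb 3 24 rowsF 0 23 (0) cb23 = true := by decide +kernel

theorem hcert : ∀ q, q < 24 → ∃ (a : ℤ) (L : List (ℕ × ℤ)), chkComb 3 24 rowsF 0 q a L = true ∧ (q = 0 → a = 1 - ((1 : ℕ) : ℤ)) := by
  intro q hq
  interval_cases q
  · exact ⟨0, cb0, hcb0, by norm_num⟩
  · exact ⟨0, cb1, hcb1, by norm_num⟩
  · exact ⟨0, cb2, hcb2, by norm_num⟩
  · exact ⟨0, cb3, hcb3, by norm_num⟩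
  · exact ⟨0, cb4, hcb4, by norm_num⟩
  · exact ⟨0, cb5, hcb5, by norm_num⟩
  · exact ⟨0, cb6, hcb6, by norm_num⟩
  · exact ⟨0, cb7, hcb7, by norm_num⟩
  · exact ⟨0, cb8, hcb8, by norm_num⟩
  · exact ⟨0, cb9, hcb9, by norm_num⟩
  · exact ⟨0, cb10, hcb10, by norm_num⟩
  · exact ⟨0, cb11, hcb11, by norm_num⟩
  · exact ⟨0, cb12, hcb12, by norm_num⟩
  · exact ⟨0, cb13, hcb13, by norm_num⟩
  · exact ⟨0, cb14, hcb14, by norm_num⟩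
  · exact ⟨0, cb15, hcb15, by norm_num⟩
  · exact ⟨0, cb16, hcb16, by norm_num⟩
  · exact ⟨0, cb17, hcb17, by norm_num⟩
  · exact ⟨0, cb18, hcb18, by norm_num⟩
  · exact ⟨0, cb19, hcb19, by norm_num⟩
  · exact ⟨0, cb20, hcb20, by norm_num⟩
  · exact ⟨0, cb21, hcb21, by norm_num⟩
  · exact ⟨0, cb22, hcb22, by norm_num⟩
  · exact ⟨0, cb23, hcb23, by norm_num⟩


end Cfsg.Agent.Lib.KnownSimple.MultM.M11H
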