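import Mathlib

/-!
# Data of a coset enumeration
-/

set_option autoImplicit false

namespace Cfsg.Agent.Lib.KnownSimple.MultM.M11H

/-- Generated data. -/
def par3 : ℕ := 0x3907316b525294210739cc6294842106108400
/-- Generated data. -/
def gix3 : ℕ := 0x226e04888846a142321a220
/-- Generated data. -/
def dp3 : ℕ := 0x35b6db2492492491b6da488
/-- Generated data. -/
def fa3 : ℕ := 0x3bcdef5ad6af7a4a318c2107bdce7318a4a52941ce631483187bdef79ce721bdedd28d1f4a5205420c6324a9827095933a65ef7d3178c2d494a6687ca52422287c0e771ccc32caa528a4210c429461088630842000000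
/-- Generated data. -/
def fl3 : ℕ := 0x202060418202002020008181001018006042020008080080c1010604004000c104021000304042010600104040018408102030404082098c203c60f182c607180c6131840800181040c20302001020200184040c080040410000042030208200020c104060400406041000804182018c10002001840608080
/-- Generated data. -/
def fb3 : ℕ := 0x39077194bddea4a28841eef3d367944c5218b02118820c25083bdef7bbe738edef728d2f1d3d293350999ac5ac2984ac9a66a1ac6b317e2f6ad1337ca4e9459182e0f739a76196a5294941cc6194a4084631882100000
/-- Generated data. -/
def fk3 : ℕ := 0x1841431440c21840841430861421431840840c21851031430860851060c68955100194c902148b0277d17851030c41861851451040c30821868248d63dd68000c20000000054069334901760072500034000701b02130800000028078e0000889a2000540041041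
/-- Generated data. -/
def po3 : ℕ := 0x32b94c9e4b2390c7e3b1b8cc5e2b1388c3e1b0b84c1e0b0380bfdfafb7cbddeaf378bbddaeb74b9dcae370b7dbacb62abd42a148a0cf279339649e4f1e8b43e0f0581c05fefd7dbe5eef579bc5deed75ba5cee571b85b0cf632e166aa51289449d4d269349a4d2692e9747a20fe7a3d1b0c8642d948a452249249246230f87c35180b45a2d168b450281006c361b0c85418030180c0000000000000
/-- Generated data. -/
def pc3 : ℕ := 0x111111111111111111111111111111111111111193b708750975098782222222222222222222999e5980053000003087950e80990090030809530000508500249900300000
/-- Generated data. -/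
def pa3 : ℕ := 0xbab2aab86c9e7074a2625c4ea04c48427246409cb03c504a362a2890989a26243896201a181e0e08bcbab7b9adb8b7bbbdbab7bbbab2423db0afb13c43b3bbbab9b13fb0b8bbb246403dabafadafb272622f6373b3b2465747b3aa3f505355a953513faa3c4157403dabaa505551ab524e4da64c4f513f50a09da3739b90964d9da3717970a29c4024279737766d708269826e8267875e8b60953a923b8f588f5b8c5a7e3588617e32845f7e44805d7e657c297a6a6a3537766d7073422470622a1c2b302c637136202543727174716c622a1c336567566664321c2b6371716c363444622c2a1a0e1925386d6c4a484f534e49686435202749644446582629403d504e4d4b39414e26180b19274f4e4d4b3623374a4c4f4e494b393d494b392418170f130e171925384a4826180b192123374024180f101b1c3344422418170f111e1d333c24180f130e19253d362025321a1311130e19212e2c2a1d1a1e1d2b2d2a1a111b2b2a1d2b20181719211a0e0b0803090b0f1a0e0b0f1b140c0c0f110e0e080305010301090f0e080703010307090f080709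
/-- Generated data. -/
def can3 : ℕ := 0x3bcdeaf49460f7314941cc520c20
/-- Generated data. -/
def tb3_0 : ℕ := 0x2b49c64859d8d798907286928820
/-- Generated data. -/
def fi3_0 : ℕ := 0x615a56823a7f287b7823731c702e2469671510080b00
/-- Generated data. -/
def tb3_1 : ℕ := 0x2b3a464c79d105952d70d4430440
/-- Generated data. -/
def fi3_1 : ℕ := 0x5e5c8683384e297c4d761f71166c266a1b0e12630701
/-- Generated data. -/
def tb3_2 : ℕ := 0x2ad9c1323aa8c33a247aca808860
/-- Generated data. -/
def fi3_2 : ℕ := 0x5f885784804f7e25592b7472316d271e114c65090c02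
/-- Generated data. -/
def tb3_3 : ℕ := 0x2b45a9ae7c2269c9251b10239020
/-- Generated data. -/
def fi3_3 : ℕ := 0x605b878539502a7d79775536176e6b204866130d0503
/-- Generated data. -/
def tb3_4 : ℕ := 0x2955c9907b8d19a9232b4e241001
/-- Generated data. -/
def fi3_4 : ℕ := 0x895d583c815254537a51753b186f4b21680f14646204

end Cfsg.Agent.Lib.KnownSimple.MultM.M11H
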